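import Groth.Prelude.Def_Red
import Groth.Prelude.Def_AlgGrp
import Groth.Agent.H8Lim.HomDescent
import Groth.Agent.AlgGrpLib.SubGrpMono

/-!
# Closed subgroup schemes descend along limits
-/

set_option autoImplicit false
set_option linter.style.haveILetI false
set_option backward.isDefEq.respectTransparency false
universe u

open CategoryTheory CategoryTheory.Limits MonoidalCategory CartesianMonoidalCategory MonObj GrpObj AlgebraicGeometry
open Functor.LaxMonoidal Functor.OplaxMonoidal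

namespace Groth.Agent.SubGrpLim8

variable {S S' : Scheme.{u}} {T H G : Over S}

/-- `α` factors through `i` after base change along `a`. -/
def Fac (a : S' ⟶ S) (i : H ⟶ G) (α : T ⟶ G) : Prop :=
  ∃ m : Red.bc a T ⟶ Red.bc a H, m ≫ (Over.pullback a).map i = (Over.pullback a).map α

theorem fac_iff (a : S' ⟶ S) (i : H ⟶ G) (α : T ⟶ G) :
    Fac a i α ↔ ∃ h : pullback T.hom a ⟶ H.left, h ≫ i.left = pullback.fst T.hom a ≫ α.left := by
  constructor
  · rintro ⟨m, hm⟩
    refine ⟨m.left ≫ pullback.fst H.hom a, ?_⟩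
    have := congrArg (fun f => f.left ≫ pullback.fst G.hom a) hm
    simpa [Over.pullback] using this
  · rintro ⟨h, hh⟩
    have hw : h ≫ H.hom = pullback.snd T.hom a ≫ a := by
      rw [← Over.w i, ← Category.assoc, hh, Category.assoc, Over.w α, pullback.condition]
    refine ⟨Over.homMk (pullback.lift h (pullback.snd T.hom a) hw) (pullback.lift_snd _ _ _), ?_⟩
    ext1
    apply pullback.hom_ext
    · simp [Over.pullback, hh]
    · simp [Over.pullback]

theorem fac_comp {S'' : Scheme.{u}} {a : S' ⟶ S} {i : H ⟶ G} {α : T ⟶ G} (h : Fac a i α) (b : S'' ⟶ S') :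
    Fac (b ≫ a) i α := by
  obtain ⟨h', hh⟩ := (fac_iff a i α).1 h
  refine (fac_iff _ i α).2 ⟨pullback.lift (pullback.fst _ _) (pullback.snd _ _ ≫ b)
    (by rw [Category.assoc]; exact pullback.condition) ≫ h', ?_⟩
  rw [Category.assoc, hh, pullback.lift_fst_assoc]

section Stage

variable {I : Type u} [SmallCategory I] [IsCofiltered I] {D : I ⥤ Scheme.{u}} {c : Cone D}
  [∀ {i j : I} (f : i ⟶ j), IsAffineHom (D.map f)] (hc : IsLimit c) {i₀ : I}
  {T H G : Over (D.obj i₀)} {i : H ⟶ G} {α : T ⟶ G}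

include hc in
/-- A factorisation at the limit comes from a stage. -/
theorem exists_stage_fac [CompactSpace T.left] [QuasiSeparatedSpace T.left]
    [LocallyOfFinitePresentation H.hom] [LocallyOfFiniteType G.hom] (h : Fac (c.π.app i₀) i α) :
    ∃ (j : I) (φ : j ⟶ i₀), Fac (D.map φ) i α := by
  obtain ⟨m, hm⟩ := (fac_iff _ i α).1 h
  have hX := IsPullback.of_hasPullback T.hom (c.π.app i₀)
  have hw : m ≫ H.hom = pullback.fst T.hom (c.π.app i₀) ≫ T.hom := by
    rw [← Over.w i, ← Category.assoc, hm, Category.assoc, Over.w α]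
  obtain ⟨j, φ, g, s, hg, hs₁, hs₂, hsg⟩ := H8Lim.exists_stage_hom hc hX (yi := H.hom) m hw
  let Tj := pullback T.hom (D.map φ)
  let a : Tj ⟶ pullback G.hom (D.map φ) := pullback.lift (g ≫ i.left) (pullback.snd _ _)
    (by rw [Category.assoc, Over.w i, hg, pullback.condition])
  let b : Tj ⟶ pullback G.hom (D.map φ) := pullback.lift (pullback.fst _ _ ≫ α.left) (pullback.snd _ _)
    (by rw [Category.assoc, Over.w α, pullback.condition])
  have hXj : IsPullback s (pullback.snd T.hom (c.π.app i₀)) (pullback.snd T.hom (D.map φ)) (c.π.app j) :=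
    IsPullback.of_right (by rw [hs₁, c.w]; exact hX) hs₂ (IsPullback.of_hasPullback T.hom (D.map φ))
  haveI : QuasiCompact (pullback.fst T.hom (D.map φ)) :=
    MorphismProperty.pullback_fst _ _ inferInstance
  haveI : QuasiSeparated (pullback.fst T.hom (D.map φ)) :=
    MorphismProperty.pullback_fst _ _ inferInstance
  haveI : CompactSpace ↥Tj := QuasiCompact.compactSpace_of_compactSpace (pullback.fst T.hom (D.map φ))
  haveI : QuasiSeparatedSpace ↥Tj := quasiSeparatedSpace_of_quasiSeparated (pullback.fst T.hom (D.map φ))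
  haveI : LocallyOfFiniteType (pullback.snd G.hom (D.map φ)) := MorphismProperty.pullback_snd _ _ inferInstance
  obtain ⟨k, ψ, hk⟩ := H8Lim.exists_stage_eq hc hXj (yi := pullback.snd G.hom (D.map φ)) a b
    (pullback.lift_snd _ _ _) (pullback.lift_snd _ _ _) (by
      apply pullback.hom_ext
      · simp only [a, b, Category.assoc, pullback.lift_fst]
        rw [← Category.assoc, hsg, hm, ← Category.assoc, hs₁]
      · simp only [a, b, Category.assoc, pullback.lift_snd])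
  refine ⟨k, ψ ≫ φ, (fac_iff _ i α).2 ?_⟩
  have hw' : pullback.fst T.hom (D.map (ψ ≫ φ)) ≫ T.hom = (pullback.snd T.hom (D.map (ψ ≫ φ)) ≫ D.map ψ) ≫ D.map φ := by
    rw [pullback.condition, Category.assoc, ← D.map_comp]
  let t : pullback T.hom (D.map (ψ ≫ φ)) ⟶ pullback (pullback.snd T.hom (D.map φ)) (D.map ψ) :=
    pullback.lift (pullback.lift (pullback.fst _ _) (pullback.snd _ _ ≫ D.map ψ) hw') (pullback.snd _ _)
      (pullback.lift_snd _ _ _)
  refine ⟨t ≫ pullback.fst _ _ ≫ g, ?_⟩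
  have := congrArg (fun f => t ≫ f ≫ pullback.fst G.hom (D.map φ)) hk
  simp only [a, b, Category.assoc, pullback.lift_fst] at this
  rw [Category.assoc, Category.assoc, this]
  simp only [t, pullback.lift_fst_assoc]

end Stage

section Subgroup

variable (a : S' ⟶ S) [GrpObj G] (i : H ⟶ G)

local notation "PB" => Over.pullback a

/-- The four maps which must factor. -/
theorem exists_grpObj_of_fac [IsClosedImmersion i.left]
    (h1 : Fac a i (1 : 𝟙_ (Over S) ⟶ G)) (h2 : Fac a i ((fst H H ≫ i) * (snd H H ≫ i)))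
    (h3 : Fac a i i⁻¹) :
    ∃ _ : GrpObj (Red.bc a H), IsMonHom ((Over.pullback a).map i) := by
  haveI : Mono ((Over.pullback a).map i) := by
    haveI : IsClosedImmersion ((Over.pullback a).map i).left := by
      have h : IsPullback (pullback.fst H.hom a) ((Over.pullback a).map i).left i.left (pullback.fst G.hom a) := by
        refine IsPullback.of_bot ?_ (by simp [Over.pullback]) (IsPullback.of_hasPullback G.hom a)
        simpa [Over.pullback] using (IsPullback.of_hasPullback H.hom a)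
      exact MorphismProperty.of_isPullback (P := @IsClosedImmersion) h inferInstance
    exact Over.mono_of_mono_left _
  obtain ⟨m1, hm1⟩ := h1
  obtain ⟨m2, hm2⟩ := h2
  obtain ⟨m3, hm3⟩ := h3
  refine AlgGrpLib.exists_grpObj_of_mono _ ⟨Functor.LaxMonoidal.ε PB ≫ m1, ?_⟩ ⟨Functor.LaxMonoidal.μ PB H H ≫ m2, ?_⟩ ⟨m3, ?_⟩
  · rw [Category.assoc, hm1, Functor.map_one, MonObj.comp_one]
  · rw [Category.assoc, hm2, Functor.map_mul, MonObj.comp_mul, Functor.map_comp, Functor.map_comp,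
      Functor.Monoidal.μ_fst_assoc, Functor.Monoidal.μ_snd_assoc]
  · rw [hm3]
    exact map_inv (Functor.homMonoidHom PB) i

theorem isNormalHom_of_fac [GrpObj (Red.bc a H)]
    (h : Fac a i (fst G H * (snd G H ≫ i) * (fst G H)⁻¹)) :
    AlgGrp.IsNormalHom ((Over.pullback a).map i) := by
  intro T g n
  obtain ⟨m, hm⟩ := h
  refine ⟨lift g n ≫ Functor.LaxMonoidal.μ PB G H ≫ m, ?_⟩
  rw [Category.assoc, Category.assoc, hm, Functor.map_mul, Functor.map_mul, Functor.map_comp,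
    show (Over.pullback a).map (fst G H)⁻¹ = ((Over.pullback a).map (fst G H))⁻¹ from map_inv (Functor.homMonoidHom PB) _,
    MonObj.comp_mul, MonObj.comp_mul, GrpObj.comp_inv, MonObj.comp_mul, MonObj.comp_mul, GrpObj.comp_inv,
    Functor.Monoidal.μ_fst, Functor.Monoidal.μ_snd_assoc, lift_fst, lift_snd_assoc]

theorem fac_of_isMonHom [GrpObj (Red.bc a H)] [IsMonHom ((Over.pullback a).map i)] :
    Fac a i (1 : 𝟙_ (Over S) ⟶ G) ∧ Fac a i ((fst H H ≫ i) * (snd H H ≫ i)) ∧ Fac a i i⁻¹ := by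
  refine ⟨⟨1, ?_⟩, ⟨(Over.pullback a).map (fst H H) * (Over.pullback a).map (snd H H), ?_⟩,
    ⟨(𝟙 (Red.bc a H))⁻¹, ?_⟩⟩
  · rw [MonObj.one_comp, Functor.map_one]
  · rw [MonObj.mul_comp, Functor.map_mul, Functor.map_comp, Functor.map_comp]
  · rw [GrpObj.inv_comp, Category.id_comp]
    exact (map_inv (Functor.homMonoidHom PB) i).symm

theorem fac_of_isNormalHom [GrpObj (Red.bc a H)] (h : AlgGrp.IsNormalHom ((Over.pullback a).map i)) :
    Fac a i (fst G H * (snd G H ≫ i) * (fst G H)⁻¹) := by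
  obtain ⟨n', hn⟩ := h _ ((Over.pullback a).map (fst G H)) ((Over.pullback a).map (snd G H))
  refine ⟨n', ?_⟩
  rw [← hn, Functor.map_mul, Functor.map_mul, Functor.map_comp,
    show (Over.pullback a).map (fst G H)⁻¹ = ((Over.pullback a).map (fst G H))⁻¹ from map_inv (Functor.homMonoidHom PB) _]

end Subgroup

section Main

variable {I : Type u} [SmallCategory I] [IsCofiltered I] {D : I ⥤ Scheme.{u}} {c : Cone D}
  [∀ {i j : I} (f : i ⟶ j), IsAffineHom (D.map f)] (hc : IsLimit c) {i₀ : I}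
  [CompactSpace (D.obj i₀)] [QuasiSeparatedSpace (D.obj i₀)]
  (G₀ : Over (D.obj i₀)) [GrpObj G₀] [IsSeparated G₀.hom] [QuasiCompact G₀.hom]
  [LocallyOfFinitePresentation G₀.hom]
  (H₀ : Over (D.obj i₀)) (ι₀ : H₀ ⟶ G₀) [IsClosedImmersion ι₀.left]
  [LocallyOfFinitePresentation ι₀.left]

omit [IsCofiltered I] [∀ {i j : I} (f : i ⟶ j), IsAffineHom (D.map f)] [CompactSpace (D.obj i₀)]
  [QuasiSeparatedSpace (D.obj i₀)] in
theorem fac_mono {T H G : Over (D.obj i₀)} {i : H ⟶ G} {α : T ⟶ G} {j k : I} {φ : j ⟶ i₀} (h : Fac (D.map φ) i α)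
    {ψ : k ⟶ j} {χ : k ⟶ i₀} (e : ψ ≫ φ = χ) : Fac (D.map χ) i α := by
  subst e
  rw [D.map_comp]
  exact fac_comp h _

include hc in
theorem exists_subgroup_stage
    (hH : ∃ _ : GrpObj (Red.bc (c.π.app i₀) H₀), IsMonHom ((Over.pullback (c.π.app i₀)).map ι₀)) :
    (∃ (i : I) (a : i ⟶ i₀) (_ : GrpObj (Red.bc (D.map a) H₀)),
        IsMonHom ((Over.pullback (D.map a)).map ι₀)) ∧
    ((∃ (_ : GrpObj (Red.bc (c.π.app i₀) H₀)) (_ : IsMonHom ((Over.pullback (c.π.app i₀)).map ι₀)),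
        AlgGrp.IsNormalHom ((Over.pullback (c.π.app i₀)).map ι₀)) →
      ∃ (i : I) (a : i ⟶ i₀) (_ : GrpObj (Red.bc (D.map a) H₀))
        (_ : IsMonHom ((Over.pullback (D.map a)).map ι₀)),
        AlgGrp.IsNormalHom ((Over.pullback (D.map a)).map ι₀)) := by
  haveI : LocallyOfFinitePresentation H₀.hom := by rw [← Over.w ι₀]; infer_instance
  haveI : QuasiCompact H₀.hom := by rw [← Over.w ι₀]; infer_instance
  haveI : IsSeparated H₀.hom := by rw [← Over.w ι₀]; infer_instance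
  haveI : CompactSpace H₀.left := QuasiCompact.compactSpace_of_compactSpace H₀.hom
  haveI : QuasiSeparatedSpace H₀.left := quasiSeparatedSpace_of_quasiSeparated H₀.hom
  haveI : CompactSpace (𝟙_ (Over (D.obj i₀))).left := inferInstanceAs (CompactSpace (D.obj i₀))
  haveI : QuasiSeparatedSpace (𝟙_ (Over (D.obj i₀))).left := inferInstanceAs (QuasiSeparatedSpace (D.obj i₀))
  haveI : QuasiCompact (pullback.snd H₀.hom H₀.hom) := MorphismProperty.pullback_snd _ _ inferInstance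
  haveI : QuasiSeparated (pullback.snd H₀.hom H₀.hom) := MorphismProperty.pullback_snd _ _ inferInstance
  haveI : CompactSpace (H₀ ⊗ H₀).left :=
    QuasiCompact.compactSpace_of_compactSpace (pullback.snd H₀.hom H₀.hom)
  haveI : QuasiSeparatedSpace (H₀ ⊗ H₀).left :=
    quasiSeparatedSpace_of_quasiSeparated (pullback.snd H₀.hom H₀.hom)
  haveI : QuasiCompact (pullback.snd G₀.hom H₀.hom) := MorphismProperty.pullback_snd _ _ inferInstance
  haveI : QuasiSeparated (pullback.snd G₀.hom H₀.hom) := MorphismProperty.pullback_snd _ _ inferInstance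
  haveI : CompactSpace (G₀ ⊗ H₀).left :=
    QuasiCompact.compactSpace_of_compactSpace (pullback.snd G₀.hom H₀.hom)
  haveI : QuasiSeparatedSpace (G₀ ⊗ H₀).left :=
    quasiSeparatedSpace_of_quasiSeparated (pullback.snd G₀.hom H₀.hom)
  haveI : LocallyOfFiniteType G₀.hom := inferInstance
  obtain ⟨hgrp, hmon⟩ := hH
  obtain ⟨f1, f2, f3⟩ := @fac_of_isMonHom _ _ _ _ (c.π.app i₀) _ ι₀ hgrp hmon
  obtain ⟨j1, φ1, g1⟩ := exists_stage_fac hc f1
  obtain ⟨j2, φ2, g2⟩ := exists_stage_fac hc f2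
  obtain ⟨j3, φ3, g3⟩ := exists_stage_fac hc f3
  obtain ⟨l, χ, ψ, hψ⟩ := IsCofiltered.wideCospan
    (fun k : Fin 3 => (![⟨j1, φ1⟩, ⟨j2, φ2⟩, ⟨j3, φ3⟩] : Fin 3 → Σ j, (j ⟶ i₀)) k |>.2)
  refine ⟨⟨l, χ, exists_grpObj_of_fac _ ι₀ (fac_mono g1 (hψ 0)) (fac_mono g2 (hψ 1)) (fac_mono g3 (hψ 2))⟩, ?_⟩
  rintro ⟨hgrp', -, hnorm⟩
  obtain ⟨j4, φ4, g4⟩ := exists_stage_fac hc (@fac_of_isNormalHom _ _ _ _ (c.π.app i₀) _ ι₀ hgrp' hnorm)
  obtain ⟨m, ξ, τ, hτ⟩ := IsCofiltered.wideCospan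
    (fun k : Fin 2 => (![⟨l, χ⟩, ⟨j4, φ4⟩] : Fin 2 → Σ j, (j ⟶ i₀)) k |>.2)
  obtain ⟨hg, hm⟩ := exists_grpObj_of_fac (D.map ξ) ι₀ (fac_mono (fac_mono g1 (hψ 0)) (hτ 0))
    (fac_mono (fac_mono g2 (hψ 1)) (hτ 0)) (fac_mono (fac_mono g3 (hψ 2)) (hτ 0))
  exact ⟨m, ξ, hg, hm, isNormalHom_of_fac _ ι₀ (fac_mono g4 (hτ 1))⟩

end Main

end Groth.Agent.SubGrpLim8
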